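import Groth.Agent.H14.Coarse.Inertia
import Groth.Agent.H14.IsoNat.InDict
import Groth.Agent.Lib.AlgSpMor.QC
import Groth.Agent.Lib.AlgSpMor.RepBySp
import Groth.Prelude.Def_StGerb2
import Mathlib.FieldTheory.IsAlgClosed.AlgebraicClosure

/-!
Finiteness of the inertia is detected by etale charts from separated stacks with the same stabilisers.
-/

set_option autoImplicit false
set_option backward.isDefEq.respectTransparency false
set_option backward.isDefEq.respectTransparency.types false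

universe u

open CategoryTheory CategoryTheory.Limits AlgebraicGeometry

namespace Groth.Agent.H14.Coarse.EtaleInertia

open Groth.Agent.Lib.AlgStack
open Groth.Agent.H14.Sep Groth.Agent.H14.IsoNat
open FibCat (IsEquivOver fp fpFst fpSnd fpLift fpIso overCat IsFibGrpd toSelf inertia inertiaToBase InertiaObj)
open AlgSt (ofSp ofSpMap overMap spMapOfOver RepByAlgSpWith IsAlgStack)
open AlgSp (Sp yon IsAlgSpace LocP RepWith)

variable {S : Scheme.{u}} {𝒰 𝒳 : AlgSt.Cat S}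

/-- An etale piece of a chart mapping to `𝒰`, through which every point in the image of `h` passes. -/
theorem exists_piece (h𝒳 : IsFibGrpd 𝒳.p) (h𝒰 : IsFibGrpd 𝒰.p) {h : 𝒰 ⥤ᵇ 𝒳}
    (het : RepByAlgSpWith AlgSp.IsEtaleMor h) {T : Over S} (z : overCat T ⥤ᵇ 𝒳) :
    ∃ (P : Over S) (s : P ⟶ T) (u : overCat P ⥤ᵇ 𝒰), Etale s.left ∧
      Nonempty (BasedFunctor.comp (overMap s) z ≅ BasedFunctor.comp u h) ∧
      ∀ t : ↥T.left, AlgSt.Points.ofChart z t ∈ Set.range (AlgSt.Points.map h) →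
        ∃ p : ↥P.left, s.left p = t := by
  obtain ⟨G, e, he, hetG⟩ := het T z
  obtain ⟨P, p, hp, hps⟩ := G.property.atlas
  let γ : G.obj ⟶ (yon S).obj T := spMapOfOver (BasedFunctor.comp e (fpFst z h))
  obtain ⟨s, hs⟩ := (yon S).map_surjective (p ≫ γ)
  have h1 : RepWith @Etale (p ≫ γ) := hetG p hp
  rw [← hs, AlgSp.repWith_yon_map_iff] at h1
  let η : overCat P ⥤ᵇ fp z h :=
    BasedFunctor.comp (AlgSt.ofOverCat P) (BasedFunctor.comp (ofSpMap p) e)
  let ι : BasedFunctor.comp η (fpFst z h) ≅ Lft.vOf s :=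
    BasedBasic.isoWhiskerLeft (AlgSt.ofOverCat P)
      (Rep.isoSpMapOfOver (BasedFunctor.comp (ofSpMap p) (BasedFunctor.comp e (fpFst z h))) ≪≫
        eqToIso (by rw [Rep.spMapOfOver_precomp, hs]))
  refine ⟨P, s, BasedFunctor.comp η (fpSnd z h), h1,
    ⟨(BasedBasic.isoWhiskerRight ι z).symm ≪≫ BasedBasic.isoWhiskerLeft η (fpIso z h)⟩,
    fun t ht => ?_⟩
  obtain ⟨q, hq⟩ := ht
  obtain ⟨V, v, k, rfl⟩ := Chart.Points.exists_ofChart_eq h𝒰 q
  obtain ⟨W, a, b, w, ha, -, ⟨β⟩⟩ :=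
    Chart.Points.exists_of_ofChart_eq h𝒳 (x := z) (y := BasedFunctor.comp v h) hq.symm
  obtain ⟨g, hg, -⟩ := Chart.Points.exists_hom_of_iso he a (BasedFunctor.comp (overMap b) v) β
  obtain ⟨p', hp'⟩ := Lib.AlgSpace.surjective_ofPt hps (AlgSp.Points.ofPt g w)
  obtain ⟨W', c, d, w', hc, hd, e'⟩ := (Lib.AlgSpace.ofPt_eq_ofPt_iff p g p' w).1 hp'
  have key : c ≫ s = d ≫ a := (yon S).map_injective (by
    have hg' : g ≫ γ = (yon S).map a := hg
    rw [Functor.map_comp, Functor.map_comp, hs, ← hg', reassoc_of% e'])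
  refine ⟨p', ?_⟩
  rw [← ha, ← hc, ← hd, ← Scheme.Hom.comp_apply, ← Scheme.Hom.comp_apply, ← Over.comp_left,
    ← Over.comp_left, key]

/-- A functor maps the inertia to the inertia. -/
def mapInertia (h : 𝒰 ⥤ᵇ 𝒳) : inertia (toSelf 𝒰) ⥤ᵇ inertia (toSelf 𝒳) where
  toFunctor :=
    { obj := fun x => ⟨h.obj x.pt, h.mapIso x.aut, by
        have h0 : 𝒰.p.IsHomLift (𝟙 (𝒰.p.obj x.pt)) x.aut.hom :=
          IsHomLift.of_fac' _ _ _ rfl rfl ((show 𝒰.p.map x.aut.hom = 𝟙 _ from x.map_aut).trans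
            (by simp))
        have h1 : 𝒳.p.IsHomLift (𝟙 (𝒰.p.obj x.pt)) (h.map x.aut.hom) :=
          BasedFunctor.preserves_isHomLift h _ _
        exact (IsHomLift.fac' 𝒳.p (𝟙 (𝒰.p.obj x.pt)) (h.map x.aut.hom)).trans (by simp; rfl)⟩
      map := fun {x y} f => ⟨h.map f.hom, by
        change h.map x.aut.hom ≫ h.map f.hom = h.map f.hom ≫ h.map y.aut.hom
        rw [← h.toFunctor.map_comp, ← h.toFunctor.map_comp, f.comm]⟩
      map_id := fun x => InertiaObj.hom_ext (h.toFunctor.map_id x.pt)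
      map_comp := fun f g => InertiaObj.hom_ext (h.toFunctor.map_comp f.hom g.hom) }
  w := by
    refine CategoryTheory.Functor.ext (h_obj := fun x => ?_) (h_map := fun a b f => ?_)
    · exact h.w_obj (InertiaObj.pt x)
    · exact Functor.congr_hom h.w (InertiaObj.Hom.hom f)

section Piece

variable (h : 𝒰 ⥤ᵇ 𝒳) {P T : Over S} (s : P ⟶ T) (z : overCat T ⥤ᵇ 𝒳) (u : overCat P ⥤ᵇ 𝒰)
  (ι : BasedFunctor.comp (overMap s) z ≅ BasedFunctor.comp u h)

/-- The map of the inertia pulled back to the piece. -/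
def pieceMap : fp u (inertiaToBase (toSelf 𝒰)) ⥤ᵇ fp z (inertiaToBase (toSelf 𝒳)) :=
  fpLift (BasedFunctor.comp (fpFst u (inertiaToBase (toSelf 𝒰))) (overMap s))
    (BasedFunctor.comp (fpSnd u (inertiaToBase (toSelf 𝒰))) (mapInertia h))
    (BasedBasic.isoWhiskerLeft (fpFst u (inertiaToBase (toSelf 𝒰))) ι ≪≫
      BasedBasic.isoWhiskerRight (fpIso u (inertiaToBase (toSelf 𝒰))) h)

theorem pieceMap_fst :
    BasedFunctor.comp (pieceMap h s z u ι) (fpFst z (inertiaToBase (toSelf 𝒳))) =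
      BasedFunctor.comp (fpFst u (inertiaToBase (toSelf 𝒰))) (overMap s) := rfl

variable {h s z u}

/-- Compatible automorphisms give related objects. -/
theorem exists_hom_pieceMap (h𝒳 : IsFibGrpd 𝒳.p) (h𝒰 : IsFibGrpd 𝒰.p) {W : Over S}
    (tU : InDict.AutTri u W) (t : InDict.AutTri z W) (hm : t.m = tU.m ≫ s)
    (ha : z.map (eqToHom (congrArg Over.mk hm.symm)) ≫ t.a ≫
        z.map (eqToHom (congrArg Over.mk hm)) ≫ (BasedBasic.appIso ι (Over.mk tU.m)).hom =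
      (BasedBasic.appIso ι (Over.mk tU.m)).hom ≫ h.map tU.a) :
    ∃ n : (pieceMap h s z u ι).obj (tU.toObj h𝒰) ⟶ t.toObj h𝒳,
      (fp z (inertiaToBase (toSelf 𝒳))).p.IsHomLift (𝟙 W) n := by
  obtain ⟨m, a, hat⟩ := t
  obtain rfl : m = tU.m ≫ s := hm
  have ha' : a ≫ (BasedBasic.appIso ι (Over.mk tU.m)).hom =
      (BasedBasic.appIso ι (Over.mk tU.m)).hom ≫ h.map tU.a := by
    simp only [eqToHom_refl, CategoryTheory.Functor.map_id] at ha
    erw [Category.id_comp, Category.id_comp] at ha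
    exact ha
  let n₂ : ((pieceMap h s z u ι).obj (tU.toObj h𝒰)).obj.snd ⟶
      (⟨tU.m ≫ s, a, hat⟩ : InDict.AutTri z W).toInertia h𝒳 :=
    ⟨(BasedBasic.appIso ι (Over.mk tU.m)).inv, by
      change h.map tU.a ≫ (BasedBasic.appIso ι (Over.mk tU.m)).inv =
        (BasedBasic.appIso ι (Over.mk tU.m)).inv ≫ a
      rw [Iso.eq_inv_comp, ← Category.assoc, ← ha', Category.assoc, Iso.hom_inv_id, Category.comp_id]⟩
  refine ⟨Lib.Fibred.Fp.mkHom (z := (pieceMap h s z u ι).obj (tU.toObj h𝒰))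
      (w := (⟨tU.m ≫ s, a, hat⟩ : InDict.AutTri z W).toObj h𝒳) (𝟙 (Over.mk (tU.m ≫ s))) n₂ ?_,
    (Lib.Fibred.Fp.isHomLift_iff _ (𝟙 W)).2
      (IsHomLift.id (p := (overCat T).p) (a := Over.mk (tU.m ≫ s)) rfl)⟩
  change z.map (𝟙 _) ≫ 𝟙 _ = ((BasedBasic.appIso ι (Over.mk tU.m)).hom ≫ h.map (𝟙 _)) ≫
    (BasedBasic.appIso ι (Over.mk tU.m)).inv
  rw [h.toFunctor.map_id, z.toFunctor.map_id]
  erw [Category.comp_id, Category.comp_id]
  exact (Iso.hom_inv_id _).symm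

/-- An automorphism of the image lifts along a surjective map of automorphism groups. -/
theorem exists_autTri (h𝒳 : IsFibGrpd 𝒳.p) {W : Over S} (k : W ⟶ P)
    (hsurj : Function.Surjective (Gerb.autMap h (u.obj (Over.mk k))))
    (t : InDict.AutTri z W) (hm : t.m = k ≫ s) :
    ∃ tU : InDict.AutTri u W, ∃ e : tU.m = k, z.map (eqToHom (congrArg Over.mk
          (hm.trans (congrArg (· ≫ s) e.symm)).symm)) ≫ t.a ≫
        z.map (eqToHom (congrArg Over.mk (hm.trans (congrArg (· ≫ s) e.symm)))) ≫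
          (BasedBasic.appIso ι (Over.mk tU.m)).hom =
      (BasedBasic.appIso ι (Over.mk tU.m)).hom ≫ h.map tU.a := by
  obtain ⟨m, a, hat⟩ := t
  obtain rfl : m = k ≫ s := hm
  have hx : 𝒰.p.obj (u.obj (Over.mk k)) = W := u.w_obj (Over.mk k)
  have hy : 𝒳.p.obj (h.obj (u.obj (Over.mk k))) = W := (h.w_obj _).trans hx
  let j := BasedBasic.appIso ι (Over.mk k)
  have hj : 𝒳.p.IsHomLift (𝟙 W) j.hom := BasedBasic.appIso_isHomLift ι (Over.mk k)
  have hji : 𝒳.p.IsHomLift (𝟙 W) j.inv := IsHomLift.lift_id_inv 𝒳.p _ j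
  let b : h.obj (u.obj (Over.mk k)) ⟶ h.obj (u.obj (Over.mk k)) := j.inv ≫ a ≫ j.hom
  have hb : 𝒳.p.IsHomLift (𝟙 W) b := inferInstance
  have hb' : 𝒳.p.IsHomLift (𝟙 (𝒳.p.obj (h.obj (u.obj (Over.mk k))))) b :=
    IsHomLift.of_fac' _ _ _ rfl rfl
      ((IsHomLift.fac' 𝒳.p (𝟙 W) b).trans (by simp))
  have := BasedBasic.isIso_of_isHomLift_id h𝒳 (R := W) b
  let β : Gerb.AutO (h.obj (u.obj (Over.mk k))) :=
    { hom := ⟨b, hb'⟩, inv := ⟨inv b, inferInstance⟩
      hom_inv_id := Subtype.ext (IsIso.hom_inv_id b)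
      inv_hom_id := Subtype.ext (IsIso.inv_hom_id b) }
  have hβ : β.hom.1 = b := rfl
  obtain ⟨α, hα⟩ := hsurj β
  have hαβ : h.map α.hom.1 = b := by
    rw [← Gerb.autMap_hom_val, hα]
  have hl : 𝒰.p.IsHomLift (𝟙 W) α.hom.1 := by
    have h0 : 𝒰.p.IsHomLift (𝟙 (𝒰.p.obj (u.obj (Over.mk k)))) α.hom.1 := α.hom.2
    exact IsHomLift.of_fac' _ _ _ hx hx
      ((IsHomLift.fac' 𝒰.p (𝟙 (𝒰.p.obj (u.obj (Over.mk k)))) α.hom.1).trans (by simp))
  refine ⟨⟨k, α.hom.1, hl⟩, rfl, ?_⟩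
  simp only [eqToHom_refl, CategoryTheory.Functor.map_id]
  erw [Category.id_comp, Category.id_comp]
  rw [hαβ]
  change a ≫ j.hom = j.hom ≫ j.inv ≫ a ≫ j.hom
  rw [Iso.hom_inv_id_assoc]

end Piece

theorem spMapOfOver_overMap {F : Sp S} {U V : Over S} (Φ : ofSp F ⥤ᵇ overCat U) (g : U ⟶ V) :
    spMapOfOver (BasedFunctor.comp Φ (overMap g)) = spMapOfOver Φ ≫ (yon S).map g := by
  apply ObjectProperty.hom_ext
  ext T x
  rfl

/-- A map is closed if its composition with a surjective continuous map is. -/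
theorem isClosedMap_of_comp {A B C : Type*} [TopologicalSpace A] [TopologicalSpace B] [TopologicalSpace C]
    {f : B → C} {g : A → B} (hg : Function.Surjective g) (hc : Continuous g)
    (hfg : IsClosedMap (f ∘ g)) : IsClosedMap f := fun K hK => by
  have := hfg _ (hK.preimage hc)
  rwa [Set.image_comp, Set.image_preimage_eq K hg] at this

theorem univClosed_of_comp {F G H : Sp S} {q : F ⟶ G} {f : G ⟶ H}
    (hq : Function.Surjective (AlgSp.Points.map q)) (hfq : AlgSp.IsUnivClosedMor (q ≫ f)) :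
    AlgSp.IsUnivClosedMor f := fun Z Z' hZ g fst snd sq => by
  have sq' := IsPullback.of_hasPullback q fst
  have hc : IsClosedMap (AlgSp.Points.map (pullback.snd q fst ≫ snd)) :=
    hfq hZ g _ _ (sq'.paste_vert sq)
  have e : AlgSp.Points.map (pullback.snd q fst ≫ snd) =
      AlgSp.Points.map snd ∘ AlgSp.Points.map (pullback.snd q fst) :=
    funext fun x => by rw [Function.comp_apply, AlgSp.Points.map_comp]
  rw [e] at hc
  exact isClosedMap_of_comp (Lib.AlgSpMor.QC.surjective_of_isPullback sq' hq)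
    (AlgSp.Points.continuous_map _) hc

/-- Over a piece the inertia is universally closed. -/
theorem univClosed_piece (h𝒳 : IsFibGrpd 𝒳.p) (h𝒰 : IsFibGrpd 𝒰.p) {h : 𝒰 ⥤ᵇ 𝒳}
    (hsep : AlgSt.IsSeparatedOver 𝒰)
    (hsurj : ∀ (Ω : Type u) [Field Ω] [IsAlgClosed Ω] (t : Spec (CommRingCat.of Ω) ⟶ S)
      (x : 𝒰.p.Fiber (Over.mk t)), Function.Surjective (Gerb.autMap h x.1))
    {P T : Over S} (s : P ⟶ T) {z : overCat T ⥤ᵇ 𝒳} (u : overCat P ⥤ᵇ 𝒰)
    (ι : BasedFunctor.comp (overMap s) z ≅ BasedFunctor.comp u h) {G : Sp S}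
    {e : ofSp G ⥤ᵇ fp z (inertiaToBase (toSelf 𝒳))} (he : IsEquivOver e)
    {R : Sp S} {fst : R ⟶ G} {snd : R ⟶ (yon S).obj P}
    (sq : IsPullback fst snd
      (spMapOfOver (BasedFunctor.comp e (fpFst z (inertiaToBase (toSelf 𝒳))))) ((yon S).map s)) :
    AlgSp.IsUnivClosedMor snd := by
  obtain ⟨GU, eU, heU, hGU⟩ := Inertia.inertiaToBase_of_diag hsep P u
  obtain ⟨inv, -, -, ⟨ε⟩⟩ := BasedBasic.IsEquivOver.exists_inverse he
  let F := BasedFunctor.comp eU (pieceMap h s z u ι)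
  let Φ : GU.obj ⟶ G := Space.spHom (BasedFunctor.comp F inv)
  let δ : BasedFunctor.comp (ofSpMap Φ) e ≅ F :=
    (BasedBasic.isoWhiskerRight (OfPsh.isoOfPshMap (BasedFunctor.comp F inv)) e).symm ≪≫
      BasedBasic.isoWhiskerLeft F ε
  let γU : GU.obj ⟶ (yon S).obj P :=
    spMapOfOver (BasedFunctor.comp eU (fpFst u (inertiaToBase (toSelf 𝒰))))
  have hΦ : Φ ≫ spMapOfOver (BasedFunctor.comp e (fpFst z (inertiaToBase (toSelf 𝒳)))) =
      γU ≫ (yon S).map s := by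
    rw [← Rep.spMapOfOver_precomp]
    refine (Rep.spMapOfOver_eq_of_iso (BasedBasic.isoWhiskerRight δ
      (fpFst z (inertiaToBase (toSelf 𝒳))))).trans ?_
    exact (congrArg (fun Ψ => spMapOfOver (BasedFunctor.comp eU Ψ)) (pieceMap_fst h s z u ι)).trans
      (spMapOfOver_overMap (BasedFunctor.comp eU (fpFst u (inertiaToBase (toSelf 𝒰)))) s)
  let q : GU.obj ⟶ R := sq.lift Φ γU hΦ
  refine univClosed_of_comp (q := q) ?_ (by rw [sq.lift_snd]; exact hGU.2.2)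
  intro y
  obtain ⟨T', g, w₀, rfl⟩ := Lib.AlgSpace.exists_ofPt_eq y
  let K := AlgebraicClosure (T'.left.residueField w₀)
  let l : Spec (CommRingCat.of K) ⟶ T'.left :=
    Spec.map (CommRingCat.ofHom (algebraMap (T'.left.residueField w₀) K)) ≫
      T'.left.fromSpecResidueField w₀
  let W : Over S := Over.mk (l ≫ T'.hom)
  let lW : W ⟶ T' := Over.homMk l rfl
  have hl : l (IsLocalRing.closedPoint K) = w₀ :=
    (Scheme.Hom.comp_apply _ _ _).trans (Scheme.fromSpecResidueField_apply w₀ _)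
  obtain ⟨k, hk⟩ := (yon S).map_surjective (((yon S).map lW ≫ g) ≫ snd)
  let g' : (yon S).obj W ⟶ G := ((yon S).map lW ≫ g) ≫ fst
  obtain ⟨t, ht⟩ := InDict.exists_aut (e := e) h𝒳 g'
  have hm : t.m = k ≫ s := (yon S).map_injective (by
    rw [← InDict.comp_fst h𝒳 ht, Functor.map_comp, hk]
    simp only [g', Category.assoc, sq.w])
  obtain ⟨tU, htU, hta⟩ := exists_autTri ι h𝒳 k
    (hsurj K (l ≫ T'.hom) ⟨u.obj (Over.mk k), u.w_obj (Over.mk k)⟩) t hm
  obtain ⟨gU, ⟨n, hn⟩⟩ := InDict.exists_map h𝒰 heU tU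
  obtain ⟨n', hn'⟩ := exists_hom_pieceMap ι h𝒳 h𝒰 tU t (hm.trans (congrArg (· ≫ s) htU.symm)) hta
  have h1 : (fp z (inertiaToBase (toSelf 𝒳))).p.IsHomLift (𝟙 W) ((pieceMap h s z u ι).map n) :=
    BasedFunctor.preserves_isHomLift _ _ _
  have hp : (ofSp GU.obj).p.obj (Dict.objOf gU) = W := rfl
  have h2 : (fp z (inertiaToBase (toSelf 𝒳))).p.IsHomLift (𝟙 W)
      (BasedBasic.appIso δ (Dict.objOf gU)).hom := BasedBasic.appIso_isHomLift δ (Dict.objOf gU)
  have hrel : InDict.Rel e h𝒳 (gU ≫ Φ) t :=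
    ⟨((BasedBasic.appIso δ (Dict.objOf gU)).hom ≫ (pieceMap h s z u ι).map n) ≫ n',
      inferInstance⟩
  have hg : gU ≫ Φ = g' := InDict.map_unique h𝒳 he hrel ht
  have hgU : gU ≫ γU = (yon S).map k := by
    rw [← htU]; exact InDict.comp_fst h𝒰 ⟨n, hn⟩
  have hq : gU ≫ q = (yon S).map lW ≫ g := sq.hom_ext
    (by rw [Category.assoc, sq.lift_fst]; exact hg)
    (by rw [Category.assoc, sq.lift_snd, hgU, hk])
  refine ⟨AlgSp.Points.ofPt gU (IsLocalRing.closedPoint K), ?_⟩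
  rw [AlgSp.Points.map_ofPt, hq, Lib.AlgSpace.ofPt_yon_map_comp]
  exact congrArg _ hl

/-- Finiteness of the inertia from etale-local separated stacks with the same stabilisers. -/
theorem finite_inertia (h𝒳 : IsFibGrpd 𝒳.p)
    (hΔ : RepByAlgSpWith AlgSp.IsSeparatedMor (FibCat.diag (toSelf 𝒳)))
    (hqf : AlgSt.IsQuasiDMOver 𝒳)
    (hloc : ∀ x : AlgSt.Points 𝒳, ∃ (𝒰 : AlgSt.Cat S) (h : 𝒰 ⥤ᵇ 𝒳),
      IsFibGrpd 𝒰.p ∧ x ∈ Set.range (AlgSt.Points.map h) ∧
      RepByAlgSpWith AlgSp.IsEtaleMor h ∧ AlgSt.IsSeparatedOver 𝒰 ∧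
      ∀ (Ω : Type u) [Field Ω] [IsAlgClosed Ω] (t : Spec (CommRingCat.of Ω) ⟶ S)
        (u : 𝒰.p.Fiber (Over.mk t)), Function.Surjective (Gerb.autMap h u.1)) :
    RepByAlgSpWith AlgSp.IsFiniteMor (inertiaToBase (toSelf 𝒳)) := by
  intro T z
  obtain ⟨G, e, he, hsep⟩ := Inertia.inertiaToBase_of_diag hΔ T z
  have hq : LocP (@LocallyQuasiFinite ⊓ @LocallyOfFiniteType)
      (spMapOfOver (BasedFunctor.comp e (fpFst z (inertiaToBase (toSelf 𝒳))))) :=
    Space.prop_of_rep (IsAlgFp.respectsIsoSp_locP Lib.AlgSpMor.LocP.lqfLft)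
      (Inertia.inertiaToBase_of_diag hqf) G.property he
  refine ⟨G, e, he, ?_⟩
  set γ : G.obj ⟶ (yon S).obj T := spMapOfOver (BasedFunctor.comp e (fpFst z (inertiaToBase (toSelf 𝒳))))
    with hγ
  have hT := IsAlgSpace.yon_obj T
  have hr := Lib.AlgSpMor.LqfRep.representable G.property hT hq hsep
  obtain ⟨V, v, fst, sqV⟩ : ∃ (V : Over S) (v : V ⟶ T) (fst : (yon S).obj V ⟶ G.obj),
      IsPullback fst ((yon S).map v) γ (𝟙 _) :=
    ⟨hr.pullback (𝟙 _), hr.snd (𝟙 _), hr.fst (𝟙 _), hr.isPullback (𝟙 _)⟩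
  haveI : MorphismProperty.IsLocalAtTarget (@IsFinite : MorphismProperty Scheme.{u}) Scheme.fppfPrecoverage :=
    Lib.AlgSpMor.AffineDescent.isLocalAtTarget_isFinite
  have key : ∀ t : ↥T.left, ∃ (P : Scheme.{u}) (p : P ⟶ T.left), Etale p ∧
      (∃ x, p x = t) ∧ IsFinite (pullback.snd v.left p) := by
    intro t
    obtain ⟨𝒰, h, h𝒰, hx, het, hsU, hsurj⟩ := hloc (AlgSt.Points.ofChart z t)
    obtain ⟨P, s, u, hs, ⟨ι⟩, hit⟩ := exists_piece h𝒳 h𝒰 het z
    refine ⟨P.left, s.left, hs, hit t hx, ?_⟩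
    have sq := IsPullback.of_hasPullback γ ((yon S).map s)
    have hR := Lib.AlgSpace.isAlgSpace_of_isPullback sq hT.diag G.property (IsAlgSpace.yon_obj P)
    have huc := univClosed_piece h𝒳 h𝒰 hsU hsurj s u ι he sq
    have hfin := Lib.AlgSpMor.MonoLft.finite_of_univClosed_lqf hR (IsAlgSpace.yon_obj P) huc
      (SpProps.stableBC_sep G.property hT hR (IsAlgSpace.yon_obj P) _ _ _ _ sq hsep)
      (SpProps.stableBC_locP Lib.AlgSpMor.LocP.lqfLft G.property hT hR (IsAlgSpace.yon_obj P)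
        _ _ _ _ sq hq)
    rw [Lib.AlgSpMor.AffineDescent.isFiniteMor_iff] at hfin
    have sqp := IsPullback.of_hasPullback v s
    have sq1 := (sqp.map (yon S)).paste_horiz sqV
    rw [Category.comp_id] at sq1
    let L := sq.lift ((yon S).map (pullback.fst v s) ≫ fst) ((yon S).map (pullback.snd v s)) sq1.w
    have sq2 : IsPullback L ((yon S).map (pullback.snd v s)) (pullback.snd γ ((yon S).map s)) (𝟙 _) :=
      IsPullback.of_right (by rw [Category.id_comp, sq.lift_fst]; exact sq1) (by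
        rw [sq.lift_snd, Category.comp_id]) sq
    have hP : IsFinite (pullback.snd v s).left := Lib.AlgSpace.repWith_property hfin sq2
    exact (MorphismProperty.arrow_mk_iso_iff (@IsFinite : MorphismProperty Scheme.{u}) (Arrow.isoMk
      ((sqp.map (Over.forget S)).isoPullback) (Iso.refl _)
      (((sqp.map (Over.forget S)).isoPullback_hom_snd).trans (Category.comp_id _).symm))).1 hP
  choose P p hpe hpt hpf using key
  have hv : IsFinite v.left := by
    refine MorphismProperty.IsLocalAtTarget.of_forall_pullbackSnd (K := Scheme.fppfPrecoverage)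
      (R := Presieve.ofArrows P p) ?_ ?_
    · rw [Scheme.fppfPrecoverage, Scheme.ofArrows_mem_precoverage_iff]
      refine ⟨fun t => ⟨t, hpt t⟩, fun t => ?_⟩
      have := hpe t
      exact ⟨inferInstance, inferInstance⟩
    · rintro U f _ ⟨t⟩
      exact hpf t
  rw [Lib.AlgSpMor.AffineDescent.isFiniteMor_iff]
  have := sqV.isIso_fst_of_isIso
  exact Lib.AlgSpace.repWith_baseChange
    (IsPullback.of_horiz_isIso ⟨by rw [Category.comp_id, IsIso.inv_comp_eq, sqV.w, Category.comp_id]⟩ :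
      IsPullback (inv fst) γ ((yon S).map v) (𝟙 _)) ((AlgSp.repWith_yon_map_iff _ v).2 hv)

end Groth.Agent.H14.Coarse.EtaleInertia
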