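import Groth.Agent.H14.Sep.Inertia
import Groth.Agent.Lib.AlgSpMor.MonoLft
import Groth.Prelude.Def_AlgSt4

/-!
The inertia of a stack over the base and over an algebraic space agree.
-/

set_option autoImplicit false
set_option backward.isDefEq.respectTransparency false
set_option backward.isDefEq.respectTransparency.types false

universe u

open CategoryTheory CategoryTheory.Limits AlgebraicGeometry

namespace Groth.Agent.H14.Coarse

open Groth.Agent.Lib.AlgStack
open Groth.Agent.H14.Sep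
open FibCat (IsEquivOver toSelf inertia inertiaToBase InertiaObj)
open AlgSt (ofSp RepByAlgSpWith)

variable {S : Scheme.{u}} {𝒳 : AlgSt.Cat S} {M : AlgSp.Sp S} (π : 𝒳 ⥤ᵇ ofSp M)

/-- The inertia over an algebraic space maps to the inertia over the base. -/
def toInertia : inertia π ⥤ᵇ inertia (toSelf 𝒳) where
  toFunctor :=
    { obj := fun z => ⟨z.pt, z.aut, by
        have h1 : (ofSp M).p.IsHomLift (𝟙 (𝒳.p.obj z.pt)) (π.map z.aut.hom) := by
          rw [z.map_aut]; exact IsHomLift.id (π.w_obj z.pt)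
        have h2 : 𝒳.p.IsHomLift (𝟙 (𝒳.p.obj z.pt)) z.aut.hom :=
          BasedFunctor.isHomLift_map π _ _
        exact (IsHomLift.fac' 𝒳.p (𝟙 (𝒳.p.obj z.pt)) z.aut.hom).trans (by simp; rfl)⟩
      map := fun f => ⟨f.hom, f.comm⟩ }
  w := rfl

theorem isEquivOver_toInertia : IsEquivOver (toInertia π) := by
  have : (toInertia π).toFunctor.Faithful :=
    ⟨fun {a b φ ψ} h => InertiaObj.hom_ext
      (congrArg (fun m : (toInertia π).obj a ⟶ (toInertia π).obj b => m.hom) h)⟩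
  have : (toInertia π).toFunctor.Full := ⟨fun {a b} m => ⟨⟨m.hom, m.comm⟩, rfl⟩⟩
  refine BasedBasic.isEquivOver_of _ fun η => ?_
  refine ⟨⟨η.pt, η.aut, ?_⟩, Iso.refl _, IsHomLift.id rfl⟩
  have h0 : 𝒳.p.IsHomLift (𝟙 (𝒳.p.obj η.pt)) η.aut.hom :=
    IsHomLift.of_fac' _ _ _ rfl rfl (by simp; exact η.map_aut)
  have h1 : (ofSp M).p.IsHomLift (𝟙 (𝒳.p.obj η.pt)) (π.map η.aut.hom) :=
    BasedFunctor.preserves_isHomLift π _ _
  have h2 : (ofSp M).p.IsHomLift (𝟙 (𝒳.p.obj η.pt)) (𝟙 (π.obj η.pt)) :=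
    IsHomLift.id (π.w_obj η.pt)
  have : (ofSp M).p.Faithful := ⟨fun {a b φ ψ} h => Stk.EltObj.hom_ext h⟩
  exact (ofSp M).p.map_injective ((IsHomLift.fac' (ofSp M).p (𝟙 (𝒳.p.obj η.pt)) (π.map η.aut.hom)).trans
    (IsHomLift.fac' (ofSp M).p (𝟙 (𝒳.p.obj η.pt)) (𝟙 (π.obj η.pt))).symm)

/-- A separated morphism to an algebraic space from a stack with quasi-finite diagonal has finite inertia. -/
theorem finite_inertia (hqf : AlgSt.IsQuasiDMOver 𝒳) (hsep : AlgSt.IsSeparatedMor π) :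
    RepByAlgSpWith AlgSp.IsFiniteMor (inertiaToBase (toSelf 𝒳)) := by
  have hp : RepByAlgSpWith AlgSp.IsProperMor (inertiaToBase (toSelf 𝒳)) :=
    (Rep.repByAlgSpWith_iff_of_isEquivOver (f := inertiaToBase (toSelf 𝒳)) (f' := inertiaToBase π)
      (isEquivOver_toInertia π) BasedBasic.isEquivOver_id (Iso.refl _)).2
      (Inertia.inertiaToBase_of_diag hsep)
  have hq := Inertia.inertiaToBase_of_diag hqf
  intro U y
  obtain ⟨G, e, he, hG⟩ := hp U y
  exact ⟨G, e, he, Lib.AlgSpMor.MonoLft.finite_of_univClosed_lqf G.property (AlgSp.IsAlgSpace.yon_obj U)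
    hG.2.2 hG.1 (Space.prop_of_rep (IsAlgFp.respectsIsoSp_locP Lib.AlgSpMor.LocP.lqfLft) hq G.property he)⟩

end Groth.Agent.H14.Coarse
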